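import Groth.Agent.DRHyp.ExtSheaf
import Groth.Agent.Synt29.ExtBC
import Groth.Agent.QCoh.PullbackBC
import Groth.Agent.LogModGeo.Glue

/-!
# Inverse images of exterior powers
-/

set_option autoImplicit false
set_option linter.style.haveILetI false
set_option backward.isDefEq.respectTransparency false
set_option backward.isDefEq.respectTransparency.types false

universe u

open CategoryTheory AlgebraicGeometry Opposite TopologicalSpace exteriorPower
open scoped TensorProduct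
open Groth.Agent.LogModGeo (rs rf rs_rs rf_rf rs_refl rf_refl rs_smul app_rs eq_of_locally exists_glue
  exists_affine_nhd exists_hom_of_rel)

noncomputable section

namespace Groth.Agent.ExtPowBC

variable {X X' : Scheme.{u}}

/-- A morphism which is bijective on a basis of opens is an isomorphism. -/
theorem isIso_of_bijective_locally {M N : X.Modules} (θ : M ⟶ N) (B : X.Opens → Prop)
    (hB : ∀ (U : X.Opens) (x : X), x ∈ U → ∃ V, B V ∧ V ≤ U ∧ x ∈ V)
    (hbij : ∀ V, B V → Function.Bijective (θ.app V)) : IsIso θ := by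
  have hinj : ∀ (U : X.Opens) (x y : Γ(M, U)), θ.app U x = θ.app U y → x = y := fun U x y h =>
    eq_of_locally M _ _ fun p hp => by
      obtain ⟨V, hV, hVU, hpV⟩ := hB U p hp
      exact ⟨V, hVU, hpV, (hbij V hV).1 (by rw [app_rs, app_rs, h])⟩
  obtain ⟨ψ, hψ⟩ := exists_hom_of_rel (M := N) (N := M) (fun U y x => θ.app U x = y)
    (fun h y x e => by rw [app_rs, e]) (fun U y y' x x' e e' => by rw [map_add, e, e'])
    (fun U a y x e => by rw [Scheme.Modules.Hom.app_smul, e])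
    (fun U y x x' e e' => hinj U x x' (e.trans e'.symm))
    (fun U y p hp => by
      obtain ⟨V, hV, hVU, hpV⟩ := hB U p hp
      exact ⟨V, hVU, hpV, (hbij V hV).2 _⟩)
  refine ⟨ψ, Scheme.Modules.hom_ext _ _ fun U => ?_, Scheme.Modules.hom_ext _ _ fun U => ?_⟩
  · ext x
    exact hψ U _ x rfl
  · ext y
    show θ.app U (ψ.app U y) = y
    refine eq_of_locally N _ _ fun p hp => ?_
    obtain ⟨V, hV, hVU, hpV⟩ := hB U p hp
    obtain ⟨x, hx⟩ := (hbij V hV).2 (rs N hVU y)
    exact ⟨V, hVU, hpV, by rw [← app_rs, ← app_rs, hψ V _ x hx, hx]⟩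

/-- Being an exterior power is invariant under isomorphisms of the power. -/
theorem isExtPow_iso_left {p : ℕ} {E L L' : X.Modules} (e : L ≅ L') (h : ExtPow.IsExtPow p E L) :
    ExtPow.IsExtPow p E L' := by
  obtain ⟨φ, hφ⟩ := h
  have h1 : ∀ (U : X.Opens) (x : Γ(L', U)), e.hom.app U (e.inv.app U x) = x := fun U x =>
    (congr($(congrArg (fun f : L' ⟶ L' => f.app U) e.inv_hom_id) x) :)
  have h2 : ∀ (U : X.Opens) (x : Γ(L, U)), e.inv.app U (e.hom.app U x) = x := fun U x =>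
    (congr($(congrArg (fun f : L ⟶ L => f.app U) e.hom_inv_id) x) :)
  let eq : ∀ U : X.affineOpens, Γ(L', U.1) ≃ₗ[Γ(X, U.1)] Γ(L, U.1) := fun U =>
    { toFun := e.inv.app U.1
      map_add' := map_add _
      map_smul' := fun a x => Scheme.Modules.Hom.app_smul _ a x
      invFun := e.hom.app U.1
      left_inv := h1 U.1
      right_inv := h2 U.1 }
  refine ⟨fun U => (eq U).trans (φ U), fun U V h v => ?_⟩
  show rs L' h (e.hom.app U.1 ((φ U).symm (ιMulti _ p v))) = e.hom.app V.1 ((φ V).symm _)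
  rw [← app_rs]
  exact congrArg (e.hom.app V.1) (hφ U V h v)

/-- Being an exterior power is invariant under isomorphisms of the module. -/
theorem isExtPow_iso_right {p : ℕ} {E E' L : X.Modules} (e : E ≅ E') (h : ExtPow.IsExtPow p E L) :
    ExtPow.IsExtPow p E' L := by
  obtain ⟨φ, hφ⟩ := h
  have h1 : ∀ (U : X.Opens) (x : Γ(E', U)), e.hom.app U (e.inv.app U x) = x := fun U x =>
    (congr($(congrArg (fun f : E' ⟶ E' => f.app U) e.inv_hom_id) x) :)
  have h2 : ∀ (U : X.Opens) (x : Γ(E, U)), e.inv.app U (e.hom.app U x) = x := fun U x =>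
    (congr($(congrArg (fun f : E ⟶ E => f.app U) e.hom_inv_id) x) :)
  let eq : ∀ U : X.affineOpens, Γ(E, U.1) ≃ₗ[Γ(X, U.1)] Γ(E', U.1) := fun U =>
    { toFun := e.hom.app U.1
      map_add' := map_add _
      map_smul' := fun a x => Scheme.Modules.Hom.app_smul _ a x
      invFun := e.inv.app U.1
      left_inv := h2 U.1
      right_inv := h1 U.1 }
  let up : ∀ U : X.affineOpens, ↥(⋀[Γ(X, U.1)]^p Γ(E, U.1)) ≃ₗ[Γ(X, U.1)] ↥(⋀[Γ(X, U.1)]^p Γ(E', U.1)) :=
    fun U => LinearEquiv.ofLinear (exteriorPower.map p (eq U).toLinearMap)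
      (exteriorPower.map p (eq U).symm.toLinearMap)
      (by rw [← exteriorPower.map_comp, LinearEquiv.comp_coe, LinearEquiv.symm_trans_self]
          exact exteriorPower.map_id)
      (by rw [← exteriorPower.map_comp, LinearEquiv.comp_coe, LinearEquiv.self_trans_symm]
          exact exteriorPower.map_id)
  refine ⟨fun U => (φ U).trans (up U), fun U V h v => ?_⟩
  show rs L h ((φ U).symm (exteriorPower.map p (eq U).symm.toLinearMap (ιMulti _ p v))) =
    (φ V).symm (exteriorPower.map p (eq V).symm.toLinearMap (ιMulti _ p _))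
  rw [map_apply_ιMulti, map_apply_ιMulti]
  refine (hφ U V h _).trans (congrArg (fun w => (φ V).symm (ιMulti _ p w)) (funext fun j => ?_))
  exact (app_rs e.inv h (v j)).symm

variable (g : X' ⟶ X)

theorem pullSec_res (M : X.Modules) {U U' : X.Opens} {W W' : X'.Opens} (hU : U' ≤ U) (hW : W' ≤ W)
    (hle : W ≤ g ⁻¹ᵁ U) (hle' : W' ≤ g ⁻¹ᵁ U') (x : Γ(M, U)) :
    rs _ hW (QCoh.pullSec g M hle x) = QCoh.pullSec g M hle' (rs M hU x) := by
  let N := (Scheme.Modules.pullback g).obj M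
  let η := (Scheme.Modules.pullbackPushforwardAdjunction g).unit.app M
  show rs N hW (rs N hle (η.app U x)) = rs N hle' (η.app U' (rs M hU x))
  refine Eq.trans ?_ (congrArg (rs N hle') (app_rs η hU x)).symm
  show _ = rs N hle' (rs N (fun z hz => hU hz) (show Γ(N, g ⁻¹ᵁ U) from η.app U x))
  rw [rs_rs, rs_rs]

/-- The sections of the inverse image, as a semilinear map. -/
def pullAdd (M : X.Modules) {U : X.Opens} {W : X'.Opens} (hle : W ≤ g ⁻¹ᵁ U) :
    Γ(M, U) →+ Γ((Scheme.Modules.pullback g).obj M, W) :=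
  AddMonoidHom.mk' (QCoh.pullSec g M hle) (QCoh.pullSec_add g M hle)

/-- The inverse image of an exterior power of a quasi-coherent module is the exterior power of the
inverse image. -/
theorem isExtPow_pullback {E L : X.Modules} (hE : Coh.IsQCoh E) {p : ℕ} (hL : ExtPow.IsExtPow p E L) :
    ExtPow.IsExtPow p ((Scheme.Modules.pullback g).obj E) ((Scheme.Modules.pullback g).obj L) := by
  have hLq : Coh.IsQCoh L := DRHyp.isQCoh_of_isExtPow hE p hL
  have hE' : Coh.IsQCoh ((Scheme.Modules.pullback g).obj E) := QCoh.isQCoh_pullback g hE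
  obtain ⟨φ₀, hφ₀⟩ := hL
  obtain ⟨L', hL'⟩ := DRHyp.ExtSheaf.exists_isExtPow hE' p
  have hL'' := hL'
  obtain ⟨φ₁, hφ₁⟩ := hL'
  let φ : ∀ U : X.affineOpens, Γ(L, U.1) ≃ₗ[Γ(X, U.1)] ↥(⋀[Γ(X, U.1)]^p Γ(E, U.1)) := φ₀
  let φ' : ∀ W : X'.affineOpens, Γ(L', W.1) ≃ₗ[Γ(X', W.1)]
      ↥(⋀[Γ(X', W.1)]^p Γ((Scheme.Modules.pullback g).obj E, W.1)) := φ₁
  have hφ : ∀ (U V : X.affineOpens) (h : V.1 ≤ U.1) (e : Fin p → Γ(E, U.1)),
      rs L h ((φ U).symm (ιMulti _ p e)) = (φ V).symm (ιMulti _ p fun j => rs E h (e j)) := hφ₀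
  have hφ' : ∀ (U V : X'.affineOpens) (h : V.1 ≤ U.1) (e : Fin p → Γ((Scheme.Modules.pullback g).obj E, U.1)),
      rs L' h ((φ' U).symm (ιMulti _ p e)) =
        (φ' V).symm (ιMulti _ p fun j => rs ((Scheme.Modules.pullback g).obj E) h (e j)) := hφ₁
  -- the comparison over a pair of affines
  let s : ∀ (U : X.affineOpens) (W : X'.affineOpens), W.1 ≤ g ⁻¹ᵁ U.1 → Γ(L, U.1) →+ Γ(L', W.1) :=
    fun U W h => ((φ' W).symm.toAddMonoidHom.comp
      (DRHyp.Wedge.semi (g.appLE U.1 W.1 h).hom (pullAdd g E h) (QCoh.pullSec_smul g E h) p)).comp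
        (φ U).toAddMonoidHom
  have s_apply : ∀ U W h z, s U W h z = (φ' W).symm
      (DRHyp.Wedge.semi (g.appLE U.1 W.1 h).hom (pullAdd g E h) (QCoh.pullSec_smul g E h) p (φ U z)) :=
    fun _ _ _ _ => rfl
  have s_smul : ∀ U W h (a : Γ(X, U.1)) (z : Γ(L, U.1)), s U W h (a • z) = g.appLE U.1 W.1 h a • s U W h z :=
    fun U W h a z => by
      rw [s_apply, s_apply]
      rw [(φ U).map_smul, DRHyp.Wedge.semi_smul, (φ' W).symm.map_smul]
  have s_gen : ∀ U W h (v : Fin p → Γ(E, U.1)), s U W h ((φ U).symm (ιMulti _ p v)) =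
      (φ' W).symm (ιMulti _ p fun i => QCoh.pullSec g E h (v i)) := fun U W h v => by
    rw [s_apply, LinearEquiv.apply_symm_apply, DRHyp.Wedge.semi_ιMulti]
    rfl
  have s_res : ∀ (U U' : X.affineOpens) (W W' : X'.affineOpens) (hU : U'.1 ≤ U.1) (hW : W'.1 ≤ W.1)
      (h : W.1 ≤ g ⁻¹ᵁ U.1) (h' : W'.1 ≤ g ⁻¹ᵁ U'.1) (z : Γ(L, U.1)),
      rs L' hW (s U W h z) = s U' W' h' (rs L hU z) := by
    intro U U' W W' hU hW h h' z
    obtain ⟨y, rfl⟩ := (φ U).symm.surjective z
    induction y using DRHyp.Wedge.induct with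
    | h0 => simp
    | hadd a b ha hb => simp only [map_add, ha, hb]
    | hgen a v =>
      rw [map_smul, rs_smul, s_smul, s_smul, rs_smul, s_gen]
      refine congrArg₂ (· • ·) ?_ ((hφ' W W' hW _).trans ?_)
      · show (g.appLE U.1 W.1 h ≫ X'.presheaf.map (homOfLE hW).op) a =
          (X.presheaf.map (homOfLE hU).op ≫ g.appLE U'.1 W'.1 h') a
        rw [Scheme.Hom.appLE_map, Scheme.Hom.map_appLE]
      · rw [show rs L hU ((φ U).symm (ιMulti _ p v)) = _ from hφ U U' hU v, s_gen]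
        exact congrArg (fun w => (φ' W').symm (ιMulti _ p w)) (funext fun i =>
          pullSec_res g E hU hW h h' (v i))
  -- the morphism
  obtain ⟨ψ, hψ⟩ := exists_hom_of_rel (M := L) (N := (Scheme.Modules.pushforward g).obj L')
    (fun U x y => ∀ (U₀ : X.affineOpens) (h₀ : U₀.1 ≤ U) (W : X'.affineOpens) (h : W.1 ≤ g ⁻¹ᵁ U₀.1),
      rs L' (h.trans fun z hz => h₀ hz) (show Γ(L', g ⁻¹ᵁ U) from y) = s U₀ W h (rs L h₀ x))
    (fun {U V} hVU x y hR U₀ h₀ W h => by
      refine Eq.trans ?_ ((hR U₀ (h₀.trans hVU) W h).trans (congrArg (s U₀ W h) (rs_rs L hVU h₀ x).symm))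
      show rs L' _ (rs L' (fun z hz => hVU hz) (show Γ(L', g ⁻¹ᵁ U) from y)) = _
      rw [rs_rs])
    (fun U x x' y y' hR hR' U₀ h₀ W h => by
      have := congrArg₂ (· + ·) (hR U₀ h₀ W h) (hR' U₀ h₀ W h)
      rw [← map_add, ← map_add, ← map_add] at this
      exact this)
    (fun U a x y hR U₀ h₀ W h => by
      show rs L' _ (g.app U a • (show Γ(L', g ⁻¹ᵁ U) from y)) = _
      rw [rs_smul, hR U₀ h₀ W h, rs_smul L, s_smul]
      refine congrArg (fun t : Γ(X', W.1) => t • s U₀ W h (rs L h₀ x)) ?_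
      show (g.app U ≫ X'.presheaf.map _) a = (X.presheaf.map (homOfLE h₀).op ≫ g.appLE U₀.1 W.1 h) a
      rw [Scheme.Hom.map_appLE]
      rfl)
    (fun U x y y' hR hR' => eq_of_locally L' (show Γ(L', g ⁻¹ᵁ U) from y) y' fun p hp => by
      obtain ⟨U₀, hpU, h₀⟩ := exists_affine_nhd (show g p ∈ U from hp)
      obtain ⟨W, hpW, h⟩ := exists_affine_nhd (show p ∈ g ⁻¹ᵁ U₀.1 from hpU)
      exact ⟨W.1, _, hpW, (hR U₀ h₀ W h).trans (hR' U₀ h₀ W h).symm⟩)
    (fun U x q hq => by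
      obtain ⟨U₁, hqU, h₁⟩ := exists_affine_nhd hq
      refine ⟨U₁.1, h₁, hqU, ?_⟩
      obtain ⟨y, hy⟩ := exists_glue L' (U := g ⁻¹ᵁ U₁.1) (ι := {W : X'.affineOpens // W.1 ≤ g ⁻¹ᵁ U₁.1})
        (fun W => W.1.1) (fun W => W.2) (fun z hz => by
          obtain ⟨W, hzW, hW⟩ := exists_affine_nhd hz
          exact ⟨⟨W, hW⟩, hzW⟩) (fun W => s U₁ W.1 W.2 (rs L h₁ x)) (fun W₁ W₂ => by
          refine eq_of_locally L' _ _ fun z hz => ?_
          obtain ⟨W₃, hzW, hW₃⟩ := exists_affine_nhd hz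
          refine ⟨W₃.1, hW₃, hzW, ?_⟩
          rw [rs_rs, rs_rs, s_res U₁ U₁ W₁.1 W₃ le_rfl _ W₁.2 ((hW₃.trans inf_le_left).trans W₁.2),
            s_res U₁ U₁ W₂.1 W₃ le_rfl _ W₂.2 ((hW₃.trans inf_le_left).trans W₁.2)])
      refine ⟨y, fun U₀ h₀ W h => ?_⟩
      rw [hy ⟨W, h.trans fun z hz => h₀ hz⟩, ← s_res U₁ U₀ W W h₀ le_rfl (h.trans fun z hz => h₀ hz) h,
        rs_refl])
  let adj := Scheme.Modules.pullbackPushforwardAdjunction g
  let θ : (Scheme.Modules.pullback g).obj L ⟶ L' := (adj.homEquiv L L').symm ψ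
  have hθ : ∀ (U : X.affineOpens) (W : X'.affineOpens) (h : W.1 ≤ g ⁻¹ᵁ U.1) (x : Γ(L, U.1)),
      θ.app W.1 (QCoh.pullSec g L h x) = s U W h x := by
    intro U W h x
    have hy : ∀ y, (∀ (U₀ : X.affineOpens) (h₀ : U₀.1 ≤ U.1) (W : X'.affineOpens) (h : W.1 ≤ g ⁻¹ᵁ U₀.1),
        rs L' (h.trans fun z hz => h₀ hz) (show Γ(L', g ⁻¹ᵁ U.1) from y) = s U₀ W h (rs L h₀ x)) →
        ψ.app U.1 x = y := hψ U.1 x
    obtain ⟨y, hy'⟩ := exists_glue L' (U := g ⁻¹ᵁ U.1) (ι := {W : X'.affineOpens // W.1 ≤ g ⁻¹ᵁ U.1})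
        (fun W => W.1.1) (fun W => W.2) (fun z hz => by
          obtain ⟨W, hzW, hW⟩ := exists_affine_nhd hz
          exact ⟨⟨W, hW⟩, hzW⟩) (fun W => s U W.1 W.2 x) (fun W₁ W₂ => by
          refine eq_of_locally L' _ _ fun z hz => ?_
          obtain ⟨W₃, hzW, hW₃⟩ := exists_affine_nhd hz
          refine ⟨W₃.1, hW₃, hzW, ?_⟩
          rw [rs_rs, rs_rs, s_res U U W₁.1 W₃ le_rfl _ W₁.2 ((hW₃.trans inf_le_left).trans W₁.2),
            s_res U U W₂.1 W₃ le_rfl _ W₂.2 ((hW₃.trans inf_le_left).trans W₁.2)])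
    have hψy := hy y fun U₀ h₀ W' h' => by
      rw [hy' ⟨W', h'.trans fun z hz => h₀ hz⟩,
        ← s_res U U₀ W' W' h₀ le_rfl (h'.trans fun z hz => h₀ hz) h', rs_refl]
    have hu : adj.unit.app L ≫ (Scheme.Modules.pushforward g).map θ = ψ := by
      exact ((adj.homEquiv_unit (f := θ)).symm).trans ((adj.homEquiv L L').apply_symm_apply ψ)
    rw [← hy' ⟨W, h⟩, ← hψy]
    show θ.app W.1 (rs ((Scheme.Modules.pullback g).obj L) h _) = _
    rw [app_rs]
    exact congrArg (rs L' h) (congr($(congrArg (fun f : L ⟶ (Scheme.Modules.pushforward g).obj L' => f.app U.1) hu) x) :)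
  -- it is bijective
  suffices IsIso θ from isExtPow_iso_left (asIso θ).symm hL''
  refine isIso_of_bijective_locally θ
    (fun W => IsAffineOpen W ∧ ∃ U : X.affineOpens, W ≤ g ⁻¹ᵁ U.1) (fun U x hx => ?_) ?_
  · obtain ⟨U₀, hxU, -⟩ := exists_affine_nhd (show g x ∈ (⊤ : X.Opens) from trivial)
    obtain ⟨W, hxW, hW⟩ := exists_affine_nhd (show x ∈ U ⊓ g ⁻¹ᵁ U₀.1 from ⟨hx, hxU⟩)
    exact ⟨W.1, ⟨W.2, U₀, hW.trans inf_le_right⟩, hW.trans inf_le_left, hxW⟩
  rintro V ⟨hV, U, h⟩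
  let W : X'.affineOpens := ⟨V, hV⟩
  let A := Γ(X, U.1)
  let B := Γ(X', W.1)
  let _ : Algebra A B := (g.appLE U.1 W.1 h).hom.toAlgebra
  let PE := (Scheme.Modules.pullback g).obj E
  let PL := (Scheme.Modules.pullback g).obj L
  let _ : Module A Γ(PE, W.1) := Module.compHom _ (algebraMap A B)
  let _ : Module A Γ(PL, W.1) := Module.compHom _ (algebraMap A B)
  let _ : Module A Γ(L', W.1) := Module.compHom _ (algebraMap A B)
  haveI : IsScalarTower A B Γ(PE, W.1) := IsScalarTower.of_algebraMap_smul fun _ _ => rfl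
  haveI : IsScalarTower A B Γ(PL, W.1) := IsScalarTower.of_algebraMap_smul fun _ _ => rfl
  haveI : IsScalarTower A B Γ(L', W.1) := IsScalarTower.of_algebraMap_smul fun _ _ => rfl
  let lE : Γ(E, U.1) →ₗ[A] Γ(PE, W.1) :=
    { toFun := QCoh.pullSec g E h, map_add' := QCoh.pullSec_add g E h, map_smul' := QCoh.pullSec_smul g E h }
  let lL : Γ(L, U.1) →ₗ[A] Γ(PL, W.1) :=
    { toFun := QCoh.pullSec g L h, map_add' := QCoh.pullSec_add g L h, map_smul' := QCoh.pullSec_smul g L h }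
  have bE : IsBaseChange B lE :=
    QCoh.isBaseChange_pullback U.2 g W.2 hE h (fun _ => rfl) lE (fun _ => rfl)
  have bL : IsBaseChange B lL :=
    QCoh.isBaseChange_pullback U.2 g W.2 hLq h (fun _ => rfl) lL (fun _ => rfl)
  let eE : ↥(⋀[B]^p (TensorProduct A B Γ(E, U.1))) ≃ₗ[B] ↥(⋀[B]^p Γ(PE, W.1)) :=
    LinearEquiv.ofLinear (exteriorPower.map p bE.equiv.toLinearMap) (exteriorPower.map p bE.equiv.symm.toLinearMap)
      (by rw [← exteriorPower.map_comp, LinearEquiv.comp_coe, LinearEquiv.symm_trans_self]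
          exact exteriorPower.map_id)
      (by rw [← exteriorPower.map_comp, LinearEquiv.comp_coe, LinearEquiv.self_trans_symm]
          exact exteriorPower.map_id)
  let T : Γ(PL, W.1) ≃ₗ[B] Γ(L', W.1) :=
    bL.equiv.symm.trans ((TensorProduct.AlgebraTensorModule.congr (LinearEquiv.refl B B) (φ U)).trans
      (((LinearEquiv.ofBijective _ (Synt29.ExtBC.bijective_fwd (B := B) (M := Γ(E, U.1)) p)).trans eE).trans
        (φ' W).symm))
  have key : ∀ z, θ.app W.1 z = T z := by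
    intro z
    induction z using bL.inductionOn with
    | zero => exact (map_zero _).trans (map_zero T).symm
    | tmul x =>
      show θ.app W.1 (QCoh.pullSec g L h x) = T (lL x)
      rw [hθ, s_apply]
      refine congrArg (φ' W).symm ?_
      show _ = _
      erw [bL.equiv_symm_apply, TensorProduct.AlgebraTensorModule.congr_tmul]
      obtain ⟨y, rfl⟩ := (φ U).symm.surjective x
      rw [LinearEquiv.apply_symm_apply]
      have hG : ∀ y : ↥(⋀[A]^p Γ(E, U.1)),
          DRHyp.Wedge.semi (g.appLE U.1 W.1 h).hom (pullAdd g E h) (QCoh.pullSec_smul g E h) p y =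
            exteriorPower.map p bE.equiv.toLinearMap (Synt29.ExtBC.fwd A B _ p ((1 : B) ⊗ₜ[A] y)) := by
        intro y
        induction y using DRHyp.Wedge.induct with
        | h0 => simp
        | hadd a b ha hb => simp only [map_add, TensorProduct.tmul_add, ha, hb]
        | hgen a v =>
          rw [DRHyp.Wedge.semi_smul, DRHyp.Wedge.semi_ιMulti, TensorProduct.tmul_smul,
            ← algebraMap_smul B a ((1 : B) ⊗ₜ[A] ιMulti A p v), map_smul, Synt29.ExtBC.fwd_tmul, one_smul,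
            map_smul, map_apply_ιMulti]
          refine congrArg₂ (fun (t : B) w => t • ιMulti B p w) rfl (funext fun i => ?_)
          show _ = bE.equiv _
          rw [bE.equiv_tmul, one_smul]
          rfl
      exact hG y
    | smul b z hz => exact (Scheme.Modules.Hom.app_smul θ b z).trans ((congrArg (b • ·) hz).trans (map_smul T b z).symm)
    | add a b ha hb => rw [map_add, ha, hb, map_add]
  show Function.Bijective (θ.app W.1)
  rw [show ⇑(θ.app W.1).hom = ⇑T from funext key]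
  exact T.bijective

end Groth.Agent.ExtPowBC
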